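import Cfsg.Agent.Lib.FischerUnique.Simple
import Cfsg.Agent.Lib.FischerOrder.ReflModel

set_option autoImplicit false

/-! The link quotients in types M(23) and M(24) have trivial `O_2` and `O_3`, by their types alone. -/

namespace CfsgLib.FischerM24

open Subgroup
open CfsgLib.ThreeTrans (link conj_self_of_commute mul_self)
open CfsgLib.FischerType

/-- The projective reflection group in six dimensions of discriminant one is not simple with two
non-commuting elements. -/
theorem not_simple_of_proj {X : Type*} [Group X] [Finite X] {c : ZMod 3} (hc : c ≠ 0)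
    (h : Cfsg.IsProjReflectionGroupModThree X 6 1 c) (hs : IsSimpleGroup X) {a b : X}
    (hab : ¬ Commute a b) : False := by
  obtain ⟨Q, hQ, hμ, ⟨e⟩⟩ := h
  obtain ⟨B⟩ := CfsgLib.FischerOrder.Refl.exists_nbasis hQ hμ hc
  set R := Cfsg.reflectionSubgroup (⇑Q) c
  set δ : ↥R →* (ZMod 3)ˣ := CfsgLib.OrthSpinor.detHom.comp R.subtype with hδ
  have hker : center ↥R ≤ δ.ker := fun z hz =>
    MonoidHom.mem_ker.2 (CfsgLib.FischerOrder.Refl.det_center hQ hc hμ hz)
  set φ : X →* (ZMod 3)ˣ := (QuotientGroup.lift (center ↥R) δ hker).comp e.toMonoidHom with hφ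
  rcases IsSimpleGroup.eq_bot_or_eq_top_of_normal φ.ker inferInstance with h | h
  · refine hab ((MonoidHom.ker_eq_bot_iff φ).1 h ?_)
    rw [map_mul, map_mul, mul_comm]
  · obtain ⟨x, hx⟩ := e.surjective
      (QuotientGroup.mk (CfsgLib.FischerOrder.Refl.rr (Q := Q) (B.norm 0) hc))
    have h1 : φ x = 1 := MonoidHom.mem_ker.1 (h ▸ mem_top x)
    rw [hφ] at h1
    simp only [MonoidHom.comp_apply, MulEquiv.coe_toMonoidHom, hx] at h1
    rw [QuotientGroup.lift_mk, hδ, MonoidHom.comp_apply, coe_subtype] at h1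
    rw [show ((CfsgLib.FischerOrder.Refl.rr (Q := Q) (B.norm 0) hc : ↥R) :
        ↥(Cfsg.isometryGroup (ZMod 3) (⇑Q))) =
        CfsgLib.OrthSpinor.reflection (Q := Q) (v := B.e 0) (by rw [B.norm 0]; exact hc) from rfl,
      CfsgLib.OrthSpinor.detHom_reflection] at h1
    exact absurd h1 (by decide)

variable {X : Type*} [Group X] [Finite X]

/-- A member of a link not central among them commutes with the normal `p`-subgroup, if the latter
meets the group of the link centrally. -/
theorem commute_of_mem_pCore {A : Set X} (hset : Cfsg.IsThreeTranspositionSet A)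
    (hconj : ∀ g : X, ∀ a ∈ A, g * a * g⁻¹ ∈ A) {p : ℕ} (hp : p = 2 ∨ p = 3) {d u w : X}
    (hd : d ∈ A) (hu : u ∈ link A d) (hw : w ∈ link A d) (huw : ¬ Commute u w)
    (hR : ∀ x ∈ Cfsg.pCore p X, x ∈ closure (link A d) → Commute x w) {r : X}
    (hr : r ∈ Cfsg.pCore p X) : Commute r u := by
  set v := r * u * r⁻¹ with hvdef
  have hv : v ∈ A := hconj r u hu.1
  by_contra hne'
  have hne : u ≠ v := fun h => hne' (mul_inv_eq_iff_eq_mul.1 h.symm)
  have hmem : u * v ∈ Cfsg.pCore p X := by
    have e : u * v = (u * r * u⁻¹) * r⁻¹ := by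
      rw [hvdef, CfsgLib.ThreeTrans.inv_eq hset hu.1]; simp only [mul_assoc]
    rw [e]
    exact mul_mem ((inferInstance : (Cfsg.pCore p X).Normal).conj_mem r hr u) (inv_mem hr)
  have hvl : v ∈ link A d := by
    rcases hp with rfl | rfl
    · have hs := CfsgLib.ThreeTransp.sameComm_of_mul_mem hset hu.1 hv hmem
      refine ⟨hv, fun h => huw ((hs w hw.1).1 (by rw [h]; exact hw.2.2)), ?_⟩
      exact ((hs d hd).2 hu.2.2.symm).symm
    · have hs := CfsgLib.ThreeTransp.sameLink_of_mul_mem hset hu.1 hv hmem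
      obtain ⟨h1, h2⟩ := (hs d hd).1 ⟨hu.2.1.symm, hu.2.2.symm⟩
      exact ⟨hv, h1.symm, h2.symm⟩
  exact huw (commute_of_commute_mul_two hset hu.1 hv hw.1 hne
    (hR _ hmem (mul_mem (subset_closure hu) (subset_closure hvl))).symm).1.symm

/-- The intersection of a normal `p`-subgroup with a link group is central if the quotient has
trivial `O_p`. -/
theorem commute_of_pCore_quot {p : ℕ} [Fact p.Prime] {A : Set X} {d : X}
    (h : Cfsg.pCore p (Quot A d) = ⊥) :
    ∀ x ∈ Cfsg.pCore p X, x ∈ closure (link A d) → ∀ w ∈ link A d, Commute x w := by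
  intro x hx hxK w hw
  have hN : (Cfsg.pCore p X).subgroupOf (closure (link A d)) ≤
      Cfsg.pCore p ↥(closure (link A d)) :=
    CfsgLib.ThreeTransp.le_pCore inferInstance
      ((CfsgLib.LargeXS.pCore_isPGroup p X).comap_of_injective _ (Subgroup.subtype_injective _))
  have h1 := pCore_link_le_of_quot h (hN (show (⟨x, hxK⟩ : ↥(closure (link A d))) ∈ _ from hx))
  exact (congrArg Subtype.val (mem_center_iff.1 h1 ⟨w, subset_closure hw⟩)).symm

omit [Finite X] in
/-- Members of the link commute when their images do, for a set containing the trivial element. -/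
theorem commute_of_toImg_restrict {I A : Set X} (hset : Cfsg.IsThreeTranspositionSet A)
    (hof : ∀ {q r : X}, q ∈ I → ¬ Commute q r → q ∈ A) {a u w : X} (hu : u ∈ link I a)
    (hw : w ∈ link I a) (h : Commute (toImg I a hu) (toImg I a hw)) : Commute u w := by
  by_contra hnc
  apply hnc
  have huA := hof hu.1 hnc
  have hwA := hof hw.1 fun h' => hnc h'.symm
  set K := closure (link I a) with hK
  have h1 : (⟨u, subset_closure hu⟩ * ⟨w, subset_closure hw⟩ : ↥K) *
      (⟨w, subset_closure hw⟩ * ⟨u, subset_closure hu⟩)⁻¹ ∈ center ↥K := by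
    rw [← QuotientGroup.eq_one_iff, QuotientGroup.mk_mul, QuotientGroup.mk_inv, mul_inv_eq_one,
      QuotientGroup.mk_mul, QuotientGroup.mk_mul]
    exact h.eq
  set z : ↥K := ⟨u, subset_closure hu⟩ * ⟨w, subset_closure hw⟩ with hz
  have hinv : (⟨w, subset_closure hw⟩ * ⟨u, subset_closure hu⟩ : ↥K)⁻¹ = z := Subtype.ext (by
    simp [hz, CfsgLib.ThreeTrans.inv_eq hset huA, CfsgLib.ThreeTrans.inv_eq hset hwA])
  rw [hinv] at h1
  have h3 : z * (z * z) = 1 := Subtype.ext (by
    have := CfsgLib.ThreeTrans.cube_eq_one hset huA hwA hnc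
    rw [pow_succ', pow_two] at this
    simpa [hz] using this)
  have hzc : z ∈ center ↥K := by
    rw [eq_inv_of_mul_eq_one_left h3]
    exact inv_mem h1
  have h6 : u * (u * w) = u * w * u :=
    congrArg Subtype.val (mem_center_iff.1 hzc ⟨u, subset_closure hu⟩)
  rw [← mul_assoc, mul_self hset huA, one_mul] at h6
  calc u * w = u * (u * w * u) := by rw [← h6]
    _ = (u * u) * (w * u) := by simp only [mul_assoc]
    _ = w * u := by rw [mul_self hset huA, one_mul]

/-- The link quotient of a class, when of type M(22), has trivial `O_2` and `O_3`. -/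
theorem pCore_quot_eq_bot_of_typeM22 {E : Set X} (hc : Cfsg.IsThreeTranspositionClass E) {d : X}
    (h : Cfsg.IsOfTypeM22 (Quot E d) (img E d)) {p : ℕ} [Fact p.Prime] (hp : p = 2 ∨ p = 3) :
    Cfsg.pCore p (Quot E d) = ⊥ := by
  obtain ⟨hZ, a, ha, b, hb, hab, ⟨F, i1, i2, hF, ⟨e⟩⟩, c₃, hc₃, hproj⟩ := h
  set A : Set (Quot E d) := {q | q ∈ img E d ∧ q ≠ 1} with hA
  have hsetA : Cfsg.IsThreeTranspositionSet A := by
    refine ⟨fun q hq => orderOf_eq_prime ?_ hq.2, fun q hq r hr => ?_⟩
    · obtain ⟨u, hu, rfl⟩ := exists_toImg hq.1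
      rw [← QuotientGroup.mk_pow, ← QuotientGroup.mk_one]
      exact congrArg _ (Subtype.ext (by simp [pow_two, mul_self hc.1 hu.1]))
    · obtain ⟨u, hu, rfl⟩ := exists_toImg hq.1
      obtain ⟨v, hv, rfl⟩ := exists_toImg hr.1
      rw [← QuotientGroup.mk_mul, ← QuotientGroup.mk_pow, ← QuotientGroup.mk_pow]
      refine (hc.1.2 u hu.1 v hv.1).imp (fun h => ?_) fun h => ?_ <;>
      · rw [← QuotientGroup.mk_one]
        exact congrArg _ (Subtype.ext (by simpa using h))
  have hconjA : ∀ g : Quot E d, ∀ q ∈ A, g * q * g⁻¹ ∈ A := by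
    intro g q hq
    refine ⟨?_, fun h => hq.2 (conj_eq_one_iff.1 h)⟩
    obtain ⟨u, hu, rfl⟩ := exists_toImg hq.1
    obtain ⟨k, rfl⟩ := QuotientGroup.mk_surjective g
    rw [← QuotientGroup.mk_mul, ← QuotientGroup.mk_inv, ← QuotientGroup.mk_mul]
    exact ⟨_, CfsgLib.ThreeTrans.linkClass_subset_link hc hu ⟨k, k.2, rfl⟩, rfl⟩
  have hA_of : ∀ {q r : Quot E d}, q ∈ img E d → ¬ Commute q r → q ∈ A := fun {q r} hq h =>
    ⟨hq, fun h1 => h (h1 ▸ Commute.one_left r)⟩
  have haA : a ∈ A := hA_of ha hab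
  have hbA : b ∈ A := hA_of hb fun h => hab h.symm
  have hs : IsSimpleGroup (Quot (img E d) a) := isSimpleGroup_of_psu hF e
  obtain ⟨u₀, hu₀, w₀, hw₀, huw₀⟩ := pair_of_nontrivial (D := img E d) (d := a) hs.toNontrivial
  have hnc₀ : ¬ Commute (toImg (img E d) a hu₀) (toImg (img E d) a hw₀) := fun h1 =>
    huw₀ (commute_of_toImg_restrict hsetA hA_of hu₀ hw₀ h1)
  have hbot : Cfsg.pCore p (Quot (img E d) a) = ⊥ := pCore_eq_bot_of_simple p hs hnc₀
  have hR : ∀ {u w : Quot E d}, u ∈ link (img E d) a → w ∈ link (img E d) a → ¬ Commute u w →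
      ∀ r ∈ Cfsg.pCore p (Quot E d), Commute r u := by
    intro u w hu hw huw r hr
    refine commute_of_mem_pCore hsetA hconjA hp haA ⟨hA_of hu.1 huw, hu.2⟩
      ⟨hA_of hw.1 fun h => huw h.symm, hw.2⟩ huw (fun x hx hxK => ?_) hr
    exact commute_of_pCore_quot hbot x hx
      (closure_mono (fun y (hy : y ∈ link A a) => (⟨hy.1.1, hy.2⟩ : y ∈ link (img E d) a)) hxK) w hw
  set C := centralizer (Cfsg.pCore p (Quot E d) : Set (Quot E d)) with hC
  by_cases hex : ∃ u ∈ link (img E d) a, (∃ w ∈ link (img E d) a, ¬ Commute u w) ∧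
      ∃ g : Quot E d, g * a * g⁻¹ = u
  · obtain ⟨u, hu, ⟨w, hw, huw⟩, g, rfl⟩ := hex
    have hCu : g * a * g⁻¹ ∈ C := fun r hr => (hR hu hw huw r hr).eq
    have hclsC : ∀ k : Quot E d, k * a * k⁻¹ ∈ C := fun k => by
      have h1 := (inferInstance : C.Normal).conj_mem _ hCu (k * g⁻¹)
      rwa [show k * g⁻¹ * (g * a * g⁻¹) * (k * g⁻¹)⁻¹ = k * a * k⁻¹ by group] at h1
    have hall : img E d ⊆ C := by
      intro q hq
      by_cases hconj : ∃ k : Quot E d, k * a * k⁻¹ = q
      · obtain ⟨k, rfl⟩ := hconj; exact hclsC k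
      have hqa : Commute a q := by
        by_contra h
        exact hconj ⟨a * q, CfsgLib.ThreeTrans.conj_pair hsetA haA (hA_of hq fun h' => h h'.symm) h⟩
      have hql : q ∈ link (img E d) a := ⟨hq, fun h => hconj ⟨1, by simp [h]⟩, hqa⟩
      by_cases hnc : ∃ w ∈ link (img E d) a, ¬ Commute q w
      · obtain ⟨w, hw, hqw⟩ := hnc
        exact fun r hr => (hR hql hw hqw r hr).eq
      push Not at hnc
      have hcen : q ∈ center (Quot E d) := by
        refine mem_center_iff.2 fun x => ?_
        have hle : closure (img E d) ≤ centralizer {q} := by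
          refine (closure_le _).2 fun t ht => mem_centralizer_singleton_iff.2 ?_
          by_contra hqt
          have hqt' : ¬ Commute t q := hqt
          by_cases hta : Commute a t
          · refine hqt' (hnc t ⟨ht, fun h => hqt' (h ▸ hqa), hta⟩).symm
          · refine hconj ⟨(t * q) * (a * t), ?_⟩
            rw [← CfsgLib.ThreeTrans.conj_conj_eq, CfsgLib.ThreeTrans.conj_pair hsetA haA
              (hA_of ht hqt') hta, CfsgLib.ThreeTrans.conj_pair hsetA (hA_of ht hqt')
              (hA_of hq fun h => hqt' h.symm) hqt']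
        exact mem_centralizer_singleton_iff.1 (hle ((closure_img (D := E) (d := d)).symm ▸ mem_top x))
      rw [hZ, mem_bot] at hcen
      rw [hcen]; exact one_mem C
    have htop : C = ⊤ := top_le_iff.1 (closure_img.ge.trans ((closure_le _).2 hall))
    rw [eq_bot_iff, ← hZ]
    exact fun r hr => mem_center_iff.2 fun x => (show x ∈ C from htop ▸ mem_top x) r hr |>.symm
  · exfalso
    push Not at hex
    set K := closure (link (img E d) a) with hK
    set M := closure (link (img E d) a ∩ link (img E d) b) with hM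
    have hMK : M ≤ K := closure_mono Set.inter_subset_left
    have hgen : ∀ q ∈ link (img E d) a, q ∈ M ∨ ∀ w ∈ link (img E d) a, Commute q w := by
      intro q hq
      by_cases hnc : ∃ w ∈ link (img E d) a, ¬ Commute q w
      · refine Or.inl (subset_closure ⟨hq, hq.1, fun h => hab (h ▸ hq.2.2), ?_⟩)
        obtain ⟨w, hw, hqw⟩ := hnc
        by_contra hbq
        refine hex q hq ⟨w, hw, hqw⟩ ((b * q) * (a * b)) ?_
        rw [← CfsgLib.ThreeTrans.conj_conj_eq, CfsgLib.ThreeTrans.conj_pair hsetA haA hbA hab,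
          CfsgLib.ThreeTrans.conj_pair hsetA hbA (hA_of hq.1 hqw) hbq]
      · exact Or.inr (by push Not at hnc; exact hnc)
    set φ : ↥M →* Quot (img E d) a :=
      (QuotientGroup.mk' (center ↥K)).comp (Subgroup.inclusion hMK) with hφ
    have hsurj : Function.Surjective φ := by
      rw [← MonoidHom.range_eq_top, ← top_le_iff, ← closure_img]
      refine (closure_le _).2 ?_
      intro q hq
      obtain ⟨w, hw, rfl⟩ := exists_toImg hq
      rcases hgen w hw with h1 | h1
      · exact ⟨⟨w, h1⟩, rfl⟩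
      · refine ⟨1, ?_⟩
        rw [map_one]
        refine ((QuotientGroup.eq_one_iff _).2 (mem_center_iff.2 fun x => Subtype.ext ?_)).symm
        have hle : K ≤ centralizer {w} :=
          (closure_le _).2 fun t ht => mem_centralizer_singleton_iff.2 (h1 t ht).symm.eq
        exact mem_centralizer_singleton_iff.1 (hle x.2)
    have hkerφ : φ.ker = center ↥M := by
      refine le_antisymm (fun x hx => mem_center_iff.2 fun y => Subtype.ext ?_) fun x hx => ?_
      · have h1 := congrArg (fun z : ↥K => (z : Quot E d))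
          (mem_center_iff.1 ((QuotientGroup.eq_one_iff _).1 hx) (Subgroup.inclusion hMK y))
        simpa using h1
      · refine (QuotientGroup.eq_one_iff _).2 (mem_center_iff.2 fun y => Subtype.ext ?_)
        have hle : K ≤ centralizer {(x : Quot E d)} := by
          refine (closure_le _).2 fun t ht => mem_centralizer_singleton_iff.2 ?_
          rcases hgen t ht with h1 | h1
          · exact congrArg Subtype.val (mem_center_iff.1 hx ⟨t, h1⟩)
          · have hle' : K ≤ centralizer {t} :=
              (closure_le _).2 fun s hs => mem_centralizer_singleton_iff.2 (h1 s hs).symm.eq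
            exact (mem_centralizer_singleton_iff.1 (hle' (hMK x.2))).symm
        exact mem_centralizer_singleton_iff.1 (hle y.2)
    let ι : ↥M ⧸ center ↥M ≃* Quot (img E d) a :=
      (QuotientGroup.quotientMulEquivOfEq hkerφ.symm).trans
        (QuotientGroup.quotientKerEquivOfSurjective φ hsurj)
    have : Nontrivial (↥M ⧸ center ↥M) := by
      have := hs.toNontrivial
      exact ι.toEquiv.nontrivial
    have hsM : IsSimpleGroup (↥M ⧸ center ↥M) :=
      IsSimpleGroup.isSimpleGroup_of_surjective ι.symm.toMonoidHom ι.symm.surjective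
    exact not_simple_of_proj hc₃ hproj hsM (a := ι.symm (toImg (img E d) a hu₀))
      (b := ι.symm (toImg (img E d) a hw₀)) fun h1 => hnc₀ ((commute_map_iff ι.symm.injective).1 h1)

/-- A class of type M(23) lives in a group with trivial `O_2` and `O_3`. -/
theorem pCore_eq_bot_of_typeM23 {E : Set X} (hc : Cfsg.IsThreeTranspositionClass E)
    (h : Cfsg.IsOfTypeM23 X E) {p : ℕ} [Fact p.Prime] (hp : p = 2 ∨ p = 3) :
    Cfsg.pCore p X = ⊥ := by
  obtain ⟨hZ, d, hd, c, -, -, h22, -⟩ := h
  obtain ⟨hset, hconj, hgen⟩ := CfsgLib.ThreeTransp.class_to_group hc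
  have hbot := pCore_quot_eq_bot_of_typeM22 hc h22 hp
  obtain ⟨u, hu, w, hw, huw⟩ := pair_of_typeM22_img h22
  rw [eq_bot_iff, ← hZ]
  intro r hr
  have hsub : E ⊆ centralizer {r} := by
    intro y hy
    obtain ⟨g, rfl⟩ := CfsgLib.ThreeTransp.class_conj hc hu.1 hy
    have h1 : Commute (g⁻¹ * r * g) u := commute_of_mem_pCore hset hconj hp hd hu hw huw
      (fun x hx hxK => commute_of_pCore_quot hbot x hx hxK w hw)
      (by
        have := (inferInstance : (Cfsg.pCore p X).Normal).conj_mem r hr g⁻¹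
        rwa [inv_inv] at this)
    have h2 := (CfsgLib.ThreeTrans.commute_conj_iff' g (g⁻¹ * r * g) u).2 h1
    rw [show g * (g⁻¹ * r * g) * g⁻¹ = r by group] at h2
    exact mem_centralizer_singleton_iff.2 h2.symm.eq
  refine mem_center_iff.2 fun x => ?_
  exact mem_centralizer_singleton_iff.1 ((closure_le _).2 hsub (hgen ▸ mem_top x))

/-- In type M(24) the link groups have central `O_2` and `O_3`. -/
theorem pCore_link_le_of_typeM24 {D : Set X} (S : Setting D) (h : Cfsg.IsOfTypeM24 X D) :
    ∃ d ∈ D, Cfsg.pCore 3 ↥(closure (link D d)) ≤ center ↥(closure (link D d)) ∧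
      Cfsg.pCore 2 ↥(closure (link D d)) ≤ center ↥(closure (link D d)) := by
  obtain ⟨-, d, hd, c, -, -, h23, -⟩ := h
  have : Fact (Nat.Prime 2) := ⟨Nat.prime_two⟩
  have : Fact (Nat.Prime 3) := ⟨Nat.prime_three⟩
  have hcls := S.imgClass hd (pair_of_typeM23_img h23)
  exact ⟨d, hd, pCore_link_le_of_quot (pCore_eq_bot_of_typeM23 hcls h23 (Or.inr rfl)),
    pCore_link_le_of_quot (pCore_eq_bot_of_typeM23 hcls h23 (Or.inl rfl))⟩

end CfsgLib.FischerM24
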