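import Cfsg.Agent.Lib.FischerCent.Schreier

set_option autoImplicit false

/-! Parity: a character of the centraliser of a member, odd on the members, extends to the group. -/

namespace CfsgLib.FischerM24

open Subgroup
open CfsgLib.ThreeTrans (link conj_self_of_commute)
open CfsgLib.FischerCent

/-- The group of order two. -/
abbrev C2 : Type := Multiplicative (ZMod 2)

/-- Its generator. -/
abbrev odd : C2 := Multiplicative.ofAdd 1

theorem c2_sq (x : C2) : x * x = 1 := by revert x; decide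

theorem c2_cube {x : C2} (h : x ^ 3 = 1) : x = 1 := by
  rwa [pow_succ, pow_two, c2_sq, one_mul] at h

variable {G : Type*} [Group G] {D : Set G}

/-- A character on the centraliser of a member which is odd on the members in it extends. -/
theorem exists_parity (hc : Cfsg.IsThreeTranspositionClass D) {d : G} (hd : d ∈ D)
    (hcen : centralizer ({d} : Set G) ≤ nbhd D d) (ψ : ↥(nbhd D d) →* C2)
    (hψ : ∀ x : ↥(nbhd D d), (x : G) ∈ D → ψ x = odd) :
    ∃ φ : G →* C2, ∀ x ∈ D, φ x = odd := by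
  set D' : Set (G × C2) := {y | y.1 ∈ D ∧ y.2 = odd} with hD'
  set K := closure D' with hK
  obtain ⟨hset, hconj, hgen⟩ := CfsgLib.ThreeTransp.class_to_group hc
  have hinv : ∀ {y}, y ∈ D' → y⁻¹ = y := fun {y} hy =>
    Prod.ext (CfsgLib.ThreeTrans.inv_eq hset hy.1) (inv_eq_of_mul_eq_one_left (c2_sq y.2))
  have hfst : K.map (MonoidHom.fst G C2) = ⊤ := by
    rw [hK, MonoidHom.map_closure, ← hgen]
    exact congrArg Subgroup.closure (Set.ext fun x =>
      ⟨by rintro ⟨y, hy, rfl⟩; exact hy.1, fun hx => ⟨(x, odd), ⟨hx, rfl⟩, rfl⟩⟩)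
  by_cases hodd : ((1 : G), odd) ∈ K
  · exfalso
    have htop : K = ⊤ := by
      refine eq_top_iff.2 fun y _ => ?_
      obtain ⟨k, hk, hk1⟩ := (hfst.symm ▸ mem_top y.1 : y.1 ∈ K.map (MonoidHom.fst G C2))
      have hcases : ∀ a b : C2, b = a ∨ b = odd * a := by decide
      rcases hcases k.2 y.2 with h | h
      · exact (Prod.ext hk1 h.symm : k = y) ▸ hk
      · have : y = ((1 : G), odd) * k := Prod.ext (by simpa using hk1.symm) h
        exact this ▸ mul_mem hodd hk
    have hset' : Cfsg.IsThreeTranspositionSet D' := by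
      refine ⟨fun y hy => ?_, fun y hy z hz => ?_⟩
      · refine orderOf_eq_prime ?_ fun h => ?_
        · rw [pow_two]; exact Prod.ext (CfsgLib.ThreeTrans.mul_self hset hy.1) (c2_sq y.2)
        · exact CfsgLib.ThreeTrans.ne_one hset hy.1 (congrArg Prod.fst h)
      · have h2 : (y * z).2 = 1 := by rw [Prod.snd_mul, hy.2, hz.2]; exact c2_sq _
        refine (hset.2 y.1 hy.1 z.1 hz.1).imp (fun h => ?_) fun h => ?_ <;>
        · refine Prod.ext h ?_
          rw [Prod.pow_snd, h2, one_pow]
          rfl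
    have hc' : Cfsg.IsThreeTranspositionClass D' := by
      refine ⟨hset', ⟨(d, odd), ⟨hd, rfl⟩, Set.ext fun y => ⟨fun hy => ?_, fun hy => ?_⟩⟩, htop⟩
      · obtain ⟨g, hg⟩ := CfsgLib.ThreeTransp.class_conj hc hd hy.1
        exact isConj_iff.2 ⟨(g, 1), Prod.ext hg (by simp [hy.2])⟩
      · obtain ⟨g, rfl⟩ := isConj_iff.1 hy
        exact ⟨hconj g.1 d hd, by simp [mul_comm g.2]⟩
    set p : G × C2 := (d, odd) with hp
    set graph : Subgroup (G × C2) :=
      ((nbhd D d).subtype.prod ψ).range with hgraph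
    have hle : nbhd D' p ≤ graph := by
      refine (closure_le _).2 ?_
      intro y hy
      have hy' : y.1 ∈ nbhd D d ∧ y.1 ∈ D ∧ y.2 = odd := by
        rcases hy with rfl | ⟨hyD, -, hyc⟩
        · exact ⟨mem_nbhd hd (Commute.refl d), hd, rfl⟩
        · exact ⟨mem_nbhd hyD.1 (congrArg Prod.fst hyc.eq), hyD.1, hyD.2⟩
      exact ⟨⟨y.1, hy'.1⟩, Prod.ext rfl ((hψ ⟨y.1, hy'.1⟩ hy'.2.1).trans hy'.2.2.symm)⟩
    have hproj : nbhd D d ≤ (nbhd D' p).map (MonoidHom.fst G C2) := by
      refine (closure_le _).2 ?_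
      intro x hx
      refine ⟨(x, odd), mem_nbhd ⟨?_, rfl⟩ (Prod.ext ?_ rfl), rfl⟩
      · rcases hx with rfl | hx
        exacts [hd, hx.1]
      · rcases hx with rfl | hx
        exacts [rfl, hx.2.2.eq]
    have hcube : ∀ g : G × C2, Commute g p → g ^ 3 = 1 → g ∈ nbhd D' p := by
      intro g hg hg3
      have hg1 : Commute g.1 d := congrArg Prod.fst hg.eq
      have hg13 : g.1 ^ 3 = 1 := congrArg Prod.fst hg3
      obtain ⟨x, hx, hx1⟩ := hproj (hcen (mem_centralizer_singleton_iff.2 (hg1.pow_left 2).eq))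
      have hx1' : x.1 = g.1 ^ 2 := hx1
      have e : g = x * x := by
        refine Prod.ext ?_ ?_
        · rw [Prod.fst_mul, hx1', ← pow_add, show 2 + 2 = 3 + 1 by rfl, pow_succ, hg13, one_mul]
        · rw [Prod.snd_mul, c2_sq]
          exact c2_cube (congrArg Prod.snd hg3)
      exact e ▸ mul_mem hx hx
    obtain ⟨y, hy⟩ := hle (centralizer_le_nbhd hc' ⟨hd, rfl⟩ hcube
      (show Commute ((1 : G), odd) p from Prod.ext (by simp) rfl))
    have h1 : (y : G) = 1 := congrArg Prod.fst hy
    have h2 : ψ y = odd := congrArg Prod.snd hy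
    rw [show y = 1 from Subtype.ext h1, map_one] at h2
    exact absurd h2 (by decide)
  · have hinj : Function.Injective ((MonoidHom.fst G C2).comp K.subtype) := by
      refine (injective_iff_map_eq_one _).2 fun k hk => ?_
      have hcases : ∀ a : C2, a = 1 ∨ a = odd := by decide
      rcases hcases (k : G × C2).2 with h | h
      · exact Subtype.ext (Prod.ext hk h)
      · exact absurd ((Prod.ext hk h : (k : G × C2) = (1, odd)) ▸ k.2) hodd
    have hsurj : Function.Surjective ((MonoidHom.fst G C2).comp K.subtype) := by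
      intro x
      obtain ⟨k, hk, hk1⟩ := (hfst.symm ▸ mem_top x : x ∈ K.map (MonoidHom.fst G C2))
      exact ⟨⟨k, hk⟩, hk1⟩
    set e := MulEquiv.ofBijective _ ⟨hinj, hsurj⟩ with he
    refine ⟨((MonoidHom.snd G C2).comp K.subtype).comp e.symm.toMonoidHom, fun x hx => ?_⟩
    have h1 : e.symm x = ⟨(x, odd), subset_closure ⟨hx, rfl⟩⟩ := e.injective (by
      rw [e.apply_symm_apply]; rfl)
    simp [h1]

end CfsgLib.FischerM24
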