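import Cfsg.Agent.Lib.FischerOrder.Counts
import Cfsg.Agent.Lib.FischerCent.Levels

set_option autoImplicit false

/-! The width in types M(22), M(23), M(24). -/

namespace CfsgLib.FischerM24

open Subgroup Module
open CfsgLib.ThreeTrans (link conj_self_of_commute commute_conj_iff')
open CfsgLib.FischerType CfsgLib.Classical.Herm HermSpace CfsgLib.UnitaryTransv

variable {G : Type*} [Group G] [Finite G] {D : Set G}

/-- The width from an attained bound. -/
theorem width_eq {n : ℕ} (hat : ∃ E ⊆ D, (∀ a ∈ E, ∀ b ∈ E, Commute a b) ∧ E.ncard = n)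
    (hb : ∀ E ⊆ D, (∀ a ∈ E, ∀ b ∈ E, Commute a b) → E.ncard ≤ n) :
    Cfsg.commutingWidth D = n := by
  refine IsGreatest.csSup_eq ⟨?_, ?_⟩
  · obtain ⟨E, h1, h2, h3⟩ := hat
    exact ⟨E, h1, E.toFinite, h2, h3⟩
  · rintro m ⟨E, h1, -, h2, rfl⟩
    exact hb E h1 h2

/-- The width goes up by one from the image of a link. -/
theorem width_step (S : Setting D) {d : G} (hd : d ∈ D)
    (hpair : ∃ u ∈ link D d, ∃ v ∈ link D d, ¬ Commute u v) :
    Cfsg.commutingWidth D = Cfsg.commutingWidth (img D d) + 1 := by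
  have hn := S.noCentral hd hpair
  set s := {m : ℕ | ∃ E : Set (Quot D d), E ⊆ img D d ∧ E.Finite ∧
    (∀ a ∈ E, ∀ b ∈ E, Commute a b) ∧ E.ncard = m}
  have hbdd : BddAbove s := by
    refine ⟨(img D d).ncard, ?_⟩
    rintro m ⟨E, h1, -, -, rfl⟩
    exact Set.ncard_le_ncard h1
  have hne : s.Nonempty := ⟨0, ∅, Set.empty_subset _, Set.finite_empty, by simp, Set.ncard_empty _⟩
  obtain ⟨E', hE', -, hcE', hnE'⟩ := Nat.sSup_mem hne hbdd
  apply width_eq
  · set E₀ : Set G := {w | ∃ hw : w ∈ link D d, toImg D d hw ∈ E'} with hE₀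
    have hcard : E₀.ncard = E'.ncard := by
      refine Set.ncard_congr (fun w (hw : w ∈ E₀) => toImg D d hw.1) (fun w hw => hw.2)
        (fun a b ha hb h => eq_of_toImg S.cls.1 hn ha.1 hb.1 h) fun q hq => ?_
      obtain ⟨w, hw, rfl⟩ := exists_toImg (hE' hq)
      exact ⟨w, ⟨hw, hq⟩, rfl⟩
    refine ⟨insert d E₀, Set.insert_subset hd fun w hw => hw.1.1, ?_, ?_⟩
    · rintro a (rfl | ⟨ha, ha'⟩) b (rfl | ⟨hb, hb'⟩)
      · exact Commute.refl _
      · exact hb.2.2
      · exact ha.2.2.symm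
      · exact commute_of_toImg S.cls.1 ha hb (hcE' _ ha' _ hb')
    · rw [Set.ncard_insert_of_notMem (fun h => h.1.2.1 rfl) (Set.toFinite _), hcard, hnE']
      rfl
  · intro E hE hcE
    rcases E.eq_empty_or_nonempty with rfl | ⟨a, ha⟩
    · simp
    obtain ⟨g, hg⟩ := CfsgLib.ThreeTransp.class_conj S.cls (hE ha) hd
    set E₁ := E \ {a} with hE₁
    have hl : ∀ x ∈ E₁, g * x * g⁻¹ ∈ link D d := fun x hx =>
      hg ▸ link_conj_mem S.cls g (⟨hE hx.1, hx.2, hcE a ha x hx.1⟩ : x ∈ link D a)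
    set E₂ : Set (Quot D d) := {q | ∃ (x : G) (hx : x ∈ E₁), toImg D d (hl x hx) = q} with hE₂
    have hcard : E₁.ncard = E₂.ncard := by
      refine Set.ncard_congr (fun x hx => toImg D d (hl x hx)) (fun x hx => ⟨x, hx, rfl⟩)
        (fun x y hx hy h => mul_left_cancel (mul_right_cancel
          (eq_of_toImg S.cls.1 hn (hl x hx) (hl y hy) h))) ?_
      rintro q ⟨x, hx, rfl⟩
      exact ⟨x, hx, rfl⟩
    have hle : E₂.ncard ≤ Cfsg.commutingWidth (img D d) := by
      refine le_csSup hbdd ⟨E₂, ?_, Set.toFinite _, ?_, rfl⟩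
      · rintro q ⟨x, hx, rfl⟩; exact toImg_mem _
      · rintro _ ⟨x, hx, rfl⟩ _ ⟨y, hy, rfl⟩
        exact commute_toImg _ _ ((commute_conj_iff' g x y).2 (hcE x hx.1 y hy.1))
    have h1 := Set.ncard_sdiff_singleton_add_one ha
    rw [← hE₁, hcard] at h1
    omega

/-- In type M(22) the width is 22. -/
theorem width_of_typeM22 (S : Setting D) (h : Cfsg.IsOfTypeM22 G D) :
    Cfsg.commutingWidth D = 22 := by
  obtain ⟨d, hd, -⟩ := S.cls.2.1
  refine width_eq ?_ fun E hE hcE => ?_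
  · obtain ⟨F, i1, i2, ⟨M⟩⟩ := CfsgLib.FischerOrder.models_of_typeM22 S h hd
    exact ⟨M.base, fun x hx => M.base_subset hx, fun x hx y hy => M.base_commute hx hy, M.ncard_base⟩
  rcases E.eq_empty_or_nonempty with rfl | ⟨a, ha⟩
  · simp
  obtain ⟨F, i1, i2, ⟨M⟩⟩ := CfsgLib.FischerOrder.models_of_typeM22 S h (hE ha)
  set E₁ := E \ {a} with hE₁
  have hl : ∀ x ∈ E₁, x ∈ link D a := fun x hx => ⟨hE hx.1, hx.2, hcE a ha x hx.1⟩
  set Q : (Fin 6 → F) → Prop := fun v => ∃ w ∈ E₁, M.Rep w v with hQ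
  set W := Submodule.span F {v | Q v} with hW
  have horth : ∀ x ∈ W, ∀ y ∈ W, (stdHerm M.hF 6).h x y = 0 := by
    intro x hx
    induction hx using Submodule.span_induction with
    | mem x hx =>
      intro y hy
      induction hy using Submodule.span_induction with
      | mem y hy =>
        obtain ⟨w, hw, hwx⟩ := hx
        obtain ⟨u, hu, huy⟩ := hy
        exact (M.commute_iff hwx huy).1 (hcE w hw.1 u hu.1)
      | zero => exact (stdHerm M.hF 6).zero_right _
      | add y z _ _ iy iz => rw [(stdHerm M.hF 6).add_right, iy, iz, add_zero]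
      | smul c y _ iy => rw [(stdHerm M.hF 6).smul_right, iy, mul_zero]
    | zero => intro y _; exact (stdHerm M.hF 6).zero_left _
    | add x z _ _ ix iz => intro y hy; rw [(stdHerm M.hF 6).add_left, ix y hy, iz y hy, add_zero]
    | smul c x _ ix => intro y hy; rw [(stdHerm M.hF 6).smul_left, ix y hy, mul_zero]
  have hr : finrank F W ≤ 3 := by
    have := U6.finrank_add_le M.hF W W horth
    omega
  have hWcard : Nat.card W ≤ 64 := by
    rw [Module.natCard_eq_pow_finrank (K := F), Nat.card_eq_fintype_card, M.hF]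
    calc (2 ^ 2) ^ finrank F W ≤ (2 ^ 2) ^ 3 := Nat.pow_le_pow_right (by norm_num) hr
      _ = 64 := by norm_num
  have h3 := M.ncard_mul_three (Q := Q) (by
    rintro v ⟨w, hw, hwv⟩
    exact ⟨hwv.ne_zero, hwv.isotropic, fun t ht => ⟨w, hw, hwv.smul ht⟩⟩)
  have hset : {w | ∃ v, Q v ∧ M.Rep w v} = E₁ := by
    ext w
    constructor
    · rintro ⟨v, ⟨u, hu, huv⟩, hwv⟩
      rwa [M.eq_of_smul hwv huv (one_smul F v).symm]
    · intro hw
      obtain ⟨v, hv⟩ := M.exists_vec (hl w hw)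
      exact ⟨v, ⟨w, hw, hv⟩, hv⟩
  have hQle : Nat.card {v // Q v} ≤ 63 := by
    have hsub : {v | Q v} ⊆ (W : Set (Fin 6 → F)) \ {0} := fun v hv =>
      ⟨Submodule.subset_span hv, fun h0 => by
        obtain ⟨w, -, hwv⟩ := hv
        exact hwv.ne_zero h0⟩
    have h1 := Set.ncard_le_ncard hsub (Set.toFinite _)
    have h2 := Set.ncard_sdiff_singleton_of_mem (W.zero_mem : (0 : Fin 6 → F) ∈ (W : Set (Fin 6 → F)))
    rw [h2, ← Nat.card_coe_set_eq] at h1
    have h4 : (W : Set (Fin 6 → F)).ncard = Nat.card W := (Nat.card_coe_set_eq _).symm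
    exact h1.trans (by omega)
  rw [hset] at h3
  have h1 := Set.ncard_sdiff_singleton_add_one ha
  rw [← hE₁] at h1
  omega

/-- In type M(23) the width is 23. -/
theorem width_of_typeM23 (S : Setting D) (h : Cfsg.IsOfTypeM23 G D) :
    Cfsg.commutingWidth D = 23 := by
  obtain ⟨d, hd, hpair, SX, hX⟩ := CfsgLib.FischerCent.imgData_of_typeM23 S h
  rw [width_step S hd hpair, width_of_typeM22 SX hX]

/-- In type M(24) the width is 24. -/
theorem width_of_typeM24 (S : Setting D) (h : Cfsg.IsOfTypeM24 G D) {d₀ : G} (hd₀ : d₀ ∈ D)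
    (h3 : Cfsg.pCore 3 ↥(closure (link D d₀)) ≤ center ↥(closure (link D d₀)))
    (h2 : Cfsg.pCore 2 ↥(closure (link D d₀)) ≤ center ↥(closure (link D d₀))) :
    Cfsg.commutingWidth D = 24 := by
  obtain ⟨d, hd, SX, hX⟩ := S.quotSetting_of_typeM24 h hd₀ h3 h2
  rw [width_step S hd (pair_of_typeM23_img hX), width_of_typeM23 SX hX]

end CfsgLib.FischerM24
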